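import Mathlib

/-!
# Transport of the structure of normalizers along isomorphisms (helper838)
-/

set_option autoImplicit false

namespace Cfsg.Agent.H838.Transport

open Subgroup

section

variable {G H : Type*} [Group G] [Group H]

theorem map_centralizer (e : G ≃* H) (S : Set G) :
    (centralizer S).map e.toMonoidHom = centralizer (e '' S) := by
  ext y
  rw [mem_map, mem_centralizer_iff]
  constructor
  · rintro ⟨x, hx, rfl⟩ _ ⟨s, hs, rfl⟩
    rw [mem_centralizer_iff] at hx
    change e s * e x = e x * e s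
    rw [← map_mul, ← map_mul, hx s hs]
  · intro h
    refine ⟨e.symm y, ?_, e.apply_symm_apply y⟩
    rw [mem_centralizer_iff]
    intro s hs
    apply e.injective
    rw [map_mul, map_mul, e.apply_symm_apply]
    exact h _ ⟨s, hs, rfl⟩

theorem map_normalizer (e : G ≃* H) (X : Subgroup G) :
    (normalizer (X : Set G)).map e.toMonoidHom = normalizer ((X.map e.toMonoidHom : Subgroup H) : Set H) := by
  ext y
  rw [mem_map, mem_normalizer_iff]
  constructor
  · rintro ⟨n, hn, rfl⟩ h
    rw [mem_normalizer_iff] at hn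
    constructor
    · rintro ⟨x, hx, rfl⟩
      exact ⟨n * x * n⁻¹, (hn x).1 hx, by simp⟩
    · rintro ⟨x, hx, hxh⟩
      refine ⟨n⁻¹ * x * n, ?_, ?_⟩
      · rw [SetLike.mem_coe, hn]
        have : n * (n⁻¹ * x * n) * n⁻¹ = x := by group
        rw [this]; exact hx
      · change e x = e n * h * (e n)⁻¹ at hxh
        change e (n⁻¹ * x * n) = h
        rw [map_mul, map_mul, hxh, map_inv]
        group
  · intro h
    refine ⟨e.symm y, ?_, e.apply_symm_apply y⟩
    rw [mem_normalizer_iff]
    intro x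
    have h1 := h (e x)
    have h2 : ∀ z : G, e z ∈ X.map e.toMonoidHom ↔ z ∈ X := by
      intro z
      constructor
      · rintro ⟨w, hw, hwz⟩
        rwa [← e.injective hwz]
      · intro hz
        exact ⟨z, hz, rfl⟩
    rw [h2] at h1
    rw [h1, ← h2 (e.symm y * x * (e.symm y)⁻¹)]
    simp

theorem map_closure_inter (e : G ≃* H) {D : Set G} {D' : Set H} (hD : e '' D = D') (X : Subgroup G) :
    (closure (D ∩ (centralizer (X : Set G) : Set G))).map e.toMonoidHom =
      closure (D' ∩ (centralizer ((X.map e.toMonoidHom : Subgroup H) : Set H) : Set H)) := by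
  rw [MonoidHom.map_closure]
  congr 1
  change e '' _ = _
  rw [Set.image_inter e.injective, hD]
  congr 1
  have h := map_centralizer e (X : Set G)
  rw [show ((X.map e.toMonoidHom : Subgroup H) : Set H) = e '' (X : Set G) from rfl, ← h]
  rfl

theorem map_inf' (e : G ≃* H) (A B : Subgroup G) :
    (A ⊓ B).map e.toMonoidHom = A.map e.toMonoidHom ⊓ B.map e.toMonoidHom :=
  map_inf_eq A B e.toMonoidHom e.injective

/-- **the structure `N(X) = F × ⟨C_D(X)⟩`, `|F| = m`, `C_F(X) = X`, `⟨C_D(X)⟩ ≅ S_n`** -/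
def NormStr (m n : ℕ) (D : Set G) (X : Subgroup G) : Prop :=
  ∃ F : Subgroup G, Nat.card ↥F = m ∧ X ≤ F ∧ F ⊓ Subgroup.centralizer ((X : Subgroup G) : Set G) = X ∧
    F ⊓ Subgroup.closure (D ∩ (Subgroup.centralizer ((X : Subgroup G) : Set G) : Set G)) = ⊥ ∧
    (∀ x ∈ F, ∀ y ∈ Subgroup.closure (D ∩ (Subgroup.centralizer ((X : Subgroup G) : Set G) : Set G)),
      x * y = y * x) ∧
    F ⊔ Subgroup.closure (D ∩ (Subgroup.centralizer ((X : Subgroup G) : Set G) : Set G)) =
      Subgroup.normalizer ((X : Subgroup G) : Set G) ∧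
    Nonempty (↥(Subgroup.closure (D ∩ (Subgroup.centralizer ((X : Subgroup G) : Set G) : Set G))) ≃*
      Equiv.Perm (Fin n))

theorem NormStr.map {m n : ℕ} (e : G ≃* H) {D : Set G} {D' : Set H} (hD : e '' D = D') {X : Subgroup G}
    (h : NormStr m n D X) : NormStr m n D' (X.map e.toMonoidHom) := by
  obtain ⟨F, h1, h2, h3, h4, h5, h6, ⟨h7⟩⟩ := h
  have hC : centralizer ((X.map e.toMonoidHom : Subgroup H) : Set H) =
      (centralizer (X : Set G)).map e.toMonoidHom := (map_centralizer e (X : Set G)).symm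
  refine ⟨F.map e.toMonoidHom, ?_, map_mono h2, ?_, ?_, ?_, ?_, ?_⟩
  · rw [← h1]
    exact (Nat.card_congr (e.subgroupMap F).toEquiv).symm
  · rw [hC, ← map_inf', h3]
  · rw [← map_closure_inter e hD, ← map_inf', h4, Subgroup.map_bot]
  · rw [← map_closure_inter e hD]
    rintro _ ⟨x, hx, rfl⟩ _ ⟨y, hy, rfl⟩
    change e x * e y = e y * e x
    rw [← map_mul, ← map_mul, h5 x hx y hy]
  · rw [← map_closure_inter e hD, ← Subgroup.map_sup, h6, map_normalizer]
  · rw [← map_closure_inter e hD]
    exact ⟨(e.subgroupMap _).symm.trans h7⟩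

/-- transport of "any two subgroups of order `m` are conjugate" -/
theorem conj_map {m : ℕ} (e : G ≃* H) (h : ∀ X Y : Subgroup G, Nat.card X = m → Nat.card Y = m →
    ∃ g : G, X.map (MulAut.conj g).toMonoidHom = Y) (X Y : Subgroup H) (hX : Nat.card X = m)
    (hY : Nat.card Y = m) : ∃ g : H, X.map (MulAut.conj g).toMonoidHom = Y := by
  obtain ⟨g, hg⟩ := h (X.map e.symm.toMonoidHom) (Y.map e.symm.toMonoidHom)
    (by rw [← hX]; exact (Nat.card_congr (e.symm.subgroupMap X).toEquiv).symm)
    (by rw [← hY]; exact (Nat.card_congr (e.symm.subgroupMap Y).toEquiv).symm)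
  refine ⟨e g, ?_⟩
  have h1 := congrArg (fun Z : Subgroup G => Z.map e.toMonoidHom) hg
  simp only [Subgroup.map_map] at h1
  have h2 : e.toMonoidHom.comp e.symm.toMonoidHom = MonoidHom.id H := by ext y; simp
  rw [h2, Subgroup.map_id] at h1
  rw [← h1]
  congr 1
  ext y
  simp

/-- transport of a statement for all subgroups of order `m` -/
theorem NormStr.map_all {m n k : ℕ} (e : G ≃* H) {D : Set G} {D' : Set H} (hD : e '' D = D')
    (h : ∀ X : Subgroup G, Nat.card X = k → NormStr m n D X) (X : Subgroup H) (hX : Nat.card X = k) :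
    NormStr m n D' X := by
  have h1 := (h (X.map e.symm.toMonoidHom)
    (by rw [← hX]; exact (Nat.card_congr (e.symm.subgroupMap X).toEquiv).symm)).map e hD
  rw [Subgroup.map_map] at h1
  have h2 : e.toMonoidHom.comp e.symm.toMonoidHom = MonoidHom.id H := by ext y; simp
  rwa [h2, Subgroup.map_id] at h1

/-- conjugate subgroups have the same structure when `D` is closed under conjugation -/
theorem NormStr.conj {m n : ℕ} {D : Set G} (hD : ∀ g : G, ∀ x ∈ D, g * x * g⁻¹ ∈ D) {X : Subgroup G}
    (h : NormStr m n D X) (g : G) : NormStr m n D (X.map (MulAut.conj g).toMonoidHom) := by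
  apply h.map (MulAut.conj g)
  ext y
  constructor
  · rintro ⟨x, hx, rfl⟩
    exact hD g x hx
  · intro hy
    refine ⟨g⁻¹ * y * g, ?_, ?_⟩
    · have := hD g⁻¹ y hy
      rwa [inv_inv] at this
    · rw [MulAut.conj_apply]; group

end

end Cfsg.Agent.H838.Transport
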