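import Cfsg.Agent.S2530

/-!
# Homomorphisms from symmetric groups given by chains of braiding involutions (helper838)
-/

set_option autoImplicit false

namespace Cfsg.Agent.H838.Sym

open Equiv Subgroup

/-- a homomorphism from `Perm (Fin (n + 1))` with prescribed images of the adjacent transpositions -/
theorem exists_hom {G : Type*} [Group G] {n : ℕ} (t : Fin n → G) (h2 : ∀ i, t i * t i = 1)
    (h3 : ∀ i j : Fin n, i.val + 1 = j.val → t i * t j * t i = t j * t i * t j)
    (hc : ∀ i j : Fin n, i.val + 1 < j.val → t i * t j = t j * t i) :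
    ∃ f : Perm (Fin (n + 1)) →* G, (∀ i : Fin n, f (swap i.castSucc i.succ) = t i) ∧
      f.range = closure (Set.range t) := by
  obtain ⟨cs, hcs⟩ := Cfsg.Agent.S2530.result n
  have h3' : ∀ i j : Fin n, i.val + 1 = j.val → (t i * t j) ^ 3 = 1 := by
    intro i j hij
    calc (t i * t j) ^ 3 = t i * t j * t i * (t j * t i * t j) := by
          simp only [pow_succ, pow_zero, one_mul, mul_assoc]
      _ = t i * t j * t i * (t i * t j * t i) := by rw [h3 i j hij]
      _ = t i * t j * (t i * t i) * t j * t i := by simp only [mul_assoc]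
      _ = t i * (t j * t j) * t i := by rw [h2]; simp only [mul_assoc, one_mul]
      _ = 1 := by rw [h2, mul_one, h2]
  have inv : ∀ k l : Fin n, (t k * t l)⁻¹ = t l * t k := fun k l => by
    rw [mul_inv_rev, inv_eq_of_mul_eq_one_left (h2 k), inv_eq_of_mul_eq_one_left (h2 l)]
  have hl : (CoxeterMatrix.A n).IsLiftable t := by
    intro i j
    change (t i * t j) ^ (if i = j then 1 else (if (j : ℕ) + 1 = i ∨ (i : ℕ) + 1 = j then 3 else 2)) = 1
    by_cases hij : i = j
    · subst hij
      rw [if_pos rfl, pow_one, h2]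
    · have h1 : i.val ≠ j.val := fun e => hij (Fin.ext e)
      rw [if_neg hij]
      have hc2 : ∀ i j : Fin n, i.val + 1 < j.val → (t i * t j) ^ 2 = 1 := by
        intro i j h
        rw [(show Commute (t i) (t j) from hc i j h).mul_pow, pow_two, pow_two, h2, h2, one_mul]
      by_cases h2' : (j : ℕ) + 1 = i ∨ (i : ℕ) + 1 = j
      · rw [if_pos h2']
        rcases h2' with h2' | h2'
        · rw [← inv, inv_pow, h3' j i h2', inv_one]
        · exact h3' i j h2'
      · rw [if_neg h2']
        push Not at h2'
        rcases Nat.lt_or_gt_of_ne h1 with h4 | h4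
        · exact hc2 i j (by omega)
        · rw [← inv, inv_pow, hc2 j i (by omega), inv_one]
  have key : ∀ i : Fin n, cs.lift ⟨t, hl⟩ (swap i.castSucc i.succ) = t i := by
    intro i
    rw [← hcs i]
    exact cs.lift_apply_simple hl i
  refine ⟨cs.lift ⟨t, hl⟩, key, ?_⟩
  have hg : (⊤ : Subgroup (Perm (Fin (n + 1)))) = closure (Set.range fun i : Fin n => swap i.castSucc i.succ) := by
    rw [← cs.subgroup_closure_range_simple]
    congr 1
    ext x
    simp only [Set.mem_range, hcs]
  rw [MonoidHom.range_eq_map, hg, MonoidHom.map_closure, ← Set.range_comp]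
  congr 1
  ext x
  simp only [Set.mem_range, Function.comp, key]

/-- a homomorphism from a symmetric group of degree at least 5 is injective if it does not kill some even
permutation -/
theorem injective_of_even {α : Type*} [Fintype α] [DecidableEq α] (hα : 5 ≤ Nat.card α) {G : Type*} [Group G]
    (f : Perm α →* G) {x : Perm α} (hx : x ∈ alternatingGroup α) (hfx : f x ≠ 1) : Function.Injective f := by
  rw [← MonoidHom.ker_eq_bot_iff]
  rcases alternatingGroup.normal_subgroup_eq_bot_or_eq_top hα (N := f.ker.subgroupOf (alternatingGroup α)) with h | h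
  · rw [eq_bot_iff]
    intro k hk
    have hc : ∀ g : Perm α, g * k = k * g := by
      intro g
      have h1 : k * g * k⁻¹ * g⁻¹ ∈ f.ker := by
        rw [MonoidHom.mem_ker] at hk ⊢
        simp [hk]
      have h2 : k * g * k⁻¹ * g⁻¹ ∈ alternatingGroup α := by
        rw [Equiv.Perm.mem_alternatingGroup]
        simp only [map_mul, map_inv]
        have h3 := Int.units_mul_self (Equiv.Perm.sign k)
        have h4 := Int.units_mul_self (Equiv.Perm.sign g)
        rw [mul_assoc (Equiv.Perm.sign k), mul_comm (Equiv.Perm.sign g)]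
        group
      have h3 : (⟨_, h2⟩ : alternatingGroup α) ∈ f.ker.subgroupOf (alternatingGroup α) := mem_subgroupOf.2 h1
      rw [h, mem_bot] at h3
      have h4 : k * g * k⁻¹ * g⁻¹ = 1 := congrArg Subtype.val h3
      calc g * k = 1 * (g * k) := (one_mul _).symm
        _ = k * g * k⁻¹ * g⁻¹ * (g * k) := by rw [h4]
        _ = k * g := by group
    rw [mem_bot]
    have hcen : k ∈ center (Perm α) := mem_center_iff.2 hc
    ext a
    by_contra hne
    have hne' : k a ≠ a := hne
    obtain ⟨b, hb⟩ : ∃ b, b ≠ a ∧ b ≠ k a := by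
      by_contra hcon
      push Not at hcon
      have h5 : (Finset.univ : Finset α) ⊆ {a, k a} := by
        intro b _
        rw [Finset.mem_insert, Finset.mem_singleton]
        by_cases hb : b = a
        · exact Or.inl hb
        · exact Or.inr (hcon b hb)
      have h6 := Finset.card_le_card h5
      rw [Finset.card_univ, ← Nat.card_eq_fintype_card] at h6
      have h7 := Finset.card_le_two (a := a) (b := k a)
      omega
    have h8 := congrArg (fun σ : Perm α => σ a) (hc (swap (k a) b))
    simp only [Perm.mul_apply, swap_apply_left] at h8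
    rw [swap_apply_of_ne_of_ne hne'.symm hb.1.symm] at h8
    exact hb.2 h8
  · exfalso
    have h1 : (⟨x, hx⟩ : alternatingGroup α) ∈ f.ker.subgroupOf (alternatingGroup α) := by rw [h]; exact mem_top _
    exact hfx (MonoidHom.mem_ker.1 (mem_subgroupOf.1 h1))

/-- the range of `f` is a symmetric group -/
theorem exists_equiv {G : Type*} [Group G] {n : ℕ} (hn : 4 ≤ n) (t : Fin n → G) (h2 : ∀ i, t i * t i = 1)
    (h3 : ∀ i j : Fin n, i.val + 1 = j.val → t i * t j * t i = t j * t i * t j)
    (hc : ∀ i j : Fin n, i.val + 1 < j.val → t i * t j = t j * t i)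
    (hne : t ⟨0, by omega⟩ ≠ t ⟨1, by omega⟩) :
    ∃ f : Perm (Fin (n + 1)) →* G, (∀ i : Fin n, f (swap i.castSucc i.succ) = t i) ∧
      f.range = closure (Set.range t) ∧ Function.Injective f := by
  obtain ⟨f, h, hr⟩ := exists_hom t h2 h3 hc
  refine ⟨f, h, hr, ?_⟩
  apply injective_of_even (by rw [Nat.card_eq_fintype_card, Fintype.card_fin]; omega) f
    (x := swap (⟨0, by omega⟩ : Fin n).castSucc (⟨0, by omega⟩ : Fin n).succ *
      swap (⟨1, by omega⟩ : Fin n).castSucc (⟨1, by omega⟩ : Fin n).succ)
  · rw [Equiv.Perm.mem_alternatingGroup, map_mul, Equiv.Perm.sign_swap (Fin.castSucc_lt_succ).ne,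
      Equiv.Perm.sign_swap (Fin.castSucc_lt_succ).ne]
    rfl
  · rw [map_mul, h, h]
    intro h1
    apply hne
    rw [eq_inv_of_mul_eq_one_left h1, inv_eq_of_mul_eq_one_left (h2 _)]

end Cfsg.Agent.H838.Sym
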