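import Cfsg.Agent.H838.SurvMcL
import Cfsg.Agent.H261.Fac
import Cfsg.Agent.H815.Six3
import Cfsg.Agent.LThreeModel.SU3
import Cfsg.Agent.OddHalf.D6.QThree.G23Facts
import Cfsg.Agent.OddHalf.D6.QThree.U43Tw
import Cfsg.Agent.OddHalf.NI3.Bad.RowL4Pos
import Cfsg.Agent.ResEven.LFour.Core
import Cfsg.Agent.SigZeroHN.Main
import Cfsg.Agent.S2132

/-!
# The groups of order divisible by `3^6` surviving helper815's elimination do not satisfy helper261's data (helper838)

`surv6_false`.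
-/

set_option autoImplicit false

namespace Cfsg.Agent.H838.SurvSix

open Subgroup Cfsg Cfsg.Agent.OrdDiv

universe u

/-- no involution centralizer of order divisible by 81 -/
def NoInv (K : Type*) [Group K] : Prop :=
  ∀ t : K, orderOf t = 2 → ¬ 81 ∣ Nat.card (centralizer ({t} : Set K))

theorem NoInv.congr {K L : Type*} [Group K] [Group L] (h : NoInv K) (e : K ≃* L) : NoInv L := by
  intro t ht hd
  refine h (e.symm t) ((MulEquiv.orderOf_eq e.symm t).trans ht) ?_
  rwa [H343.card_centralizer_equiv e.symm t]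

theorem NoInv.false {K : Type*} [Group K] (h : NoInv K) (hf : H261.Fac K 6) : False := by
  obtain ⟨t, ht, hd⟩ := hf.inv
  exact h t ht hd

theorem card_cent_conj {G : Type*} [Group G] (g t : G) :
    Nat.card (centralizer ({g * t * g⁻¹} : Set G)) = Nat.card (centralizer ({t} : Set G)) :=
  H343.card_centralizer_equiv (MulAut.conj g) t

theorem sq_of_ord {G : Type*} [Group G] {t : G} (ht : orderOf t = 2) : t * t = 1 ∧ t ≠ 1 := by
  refine ⟨?_, ?_⟩
  · rw [← pow_two, ← ht, pow_orderOf_eq_one]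
  · rintro rfl
    rw [orderOf_one] at ht
    exact absurd ht (by norm_num)

/-- an involution commutes with another one -/
theorem exists_comm {G : Type*} [Group G] [Finite G] {a b : G} (ha : a * a = 1) (ha1 : a ≠ 1) (hb : b * b = 1)
    (hb1 : b ≠ 1) (hab : a ≠ b) (hc : a * b = b * a) {t : G} (ht : orderOf t = 2) :
    ∃ u, u * u = 1 ∧ u ≠ 1 ∧ u ≠ t ∧ t * u = u * t := by
  have : Fact (Nat.Prime 2) := ⟨Nat.prime_two⟩
  have hp : ∀ {x : G}, x * x = 1 → IsPGroup 2 (zpowers x) := by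
    intro x hx
    have h1 : orderOf x ∣ 2 := orderOf_dvd_of_pow_eq_one (by rw [pow_two, hx])
    rw [IsPGroup.iff_card]
    rcases (Nat.dvd_prime Nat.prime_two).1 h1 with h | h
    · exact ⟨0, by rw [Nat.card_zpowers, h, pow_zero]⟩
    · exact ⟨1, by rw [Nat.card_zpowers, h, pow_one]⟩
  obtain ⟨ht2, ht1⟩ := sq_of_ord ht
  obtain ⟨S, hS⟩ := (hp ht2).exists_le_sylow
  have htS : t ∈ (S : Subgroup G) := hS (mem_zpowers t)
  have hV : IsPGroup 2 (zpowers a ⊔ zpowers b : Subgroup G) := by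
    refine (hp ha).to_sup_of_normal_left' (hp hb) ?_
    rw [Subgroup.zpowers_le]
    rw [Subgroup.mem_normalizer_iff]
    intro x
    have h3 : ∀ x ∈ zpowers a, b * x * b⁻¹ = x := by
      rintro _ ⟨n, rfl⟩
      have h4 : Commute b (a ^ n) := (show Commute b a from hc.symm).zpow_right n
      rw [h4.eq]; group
    constructor
    · intro hx; rwa [h3 x hx]
    · intro hx
      have h5 := h3 _ hx
      have h6 : b * x * b⁻¹ = x := by
        have h7 : b * (b * x * b⁻¹) * b⁻¹ = (b * b) * x * (b * b)⁻¹ := by group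
        rw [h7, hb] at h5
        rw [← h5]; group
      rwa [h6] at hx
  obtain ⟨T, hT⟩ := hV.exists_le_sylow
  obtain ⟨g, hg⟩ := MulAction.exists_smul_eq G T S
  have hmem : ∀ x ∈ (T : Subgroup G), g * x * g⁻¹ ∈ (S : Subgroup G) := by
    intro x hx
    rw [← hg]
    exact ⟨x, hx, rfl⟩
  have hSn : Nontrivial ↥(S : Subgroup G) := by
    rw [Subgroup.nontrivial_iff_exists_ne_one]
    exact ⟨t, htS, ht1⟩
  have hz := S.isPGroup'.center_nontrivial
  obtain ⟨⟨z0, hz0⟩, hz1⟩ := exists_ne (1 : ↥(center ↥(S : Subgroup G)))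
  -- an involution in the centre
  have hzp : IsPGroup 2 ↥(center ↥(S : Subgroup G)) := S.isPGroup'.to_subgroup _
  have hd : 2 ∣ Nat.card ↥(center ↥(S : Subgroup G)) := by
    obtain ⟨n, hn⟩ := IsPGroup.iff_card.1 hzp
    rw [hn]
    refine dvd_pow_self 2 ?_
    rintro rfl
    rw [pow_zero] at hn
    have := Finite.one_lt_card (α := ↥(center ↥(S : Subgroup G)))
    omega
  obtain ⟨w, hw⟩ := exists_prime_orderOf_dvd_card' 2 hd
  obtain ⟨hww, hw1⟩ := sq_of_ord hw
  obtain ⟨v, hv⟩ : ∃ v : G, v = ((w : ↥(S : Subgroup G)) : G) := ⟨_, rfl⟩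
  have hvv : v * v = 1 := by
    rw [hv]
    exact congrArg (fun x : ↥(center ↥(S : Subgroup G)) => ((x : ↥(S : Subgroup G)) : G)) hww
  have hv1 : v ≠ 1 := by
    rw [hv]
    intro h
    exact hw1 (Subtype.ext (Subtype.ext h))
  have hvc : ∀ x ∈ (S : Subgroup G), x * v = v * x := by
    intro x hx
    rw [hv]
    exact congrArg Subtype.val (Subgroup.mem_center_iff.1 w.2 ⟨x, hx⟩)
  have hconj : ∀ {x : G}, x * x = 1 → g * x * g⁻¹ * (g * x * g⁻¹) = 1 := by
    intro x hx
    calc g * x * g⁻¹ * (g * x * g⁻¹) = g * (x * x) * g⁻¹ := by group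
      _ = 1 := by rw [hx]; group
  have hconj1 : ∀ {x : G}, x ≠ 1 → g * x * g⁻¹ ≠ 1 := by
    intro x hx h
    exact hx (conj_eq_one_iff.1 h)
  by_cases hvt : v = t
  · subst hvt
    by_cases h1 : g * a * g⁻¹ = v
    · refine ⟨g * b * g⁻¹, hconj hb, hconj1 hb1, ?_, ?_⟩
      · rw [← h1]
        intro h
        exact hab (conj_injective h).symm
      · exact (hvc _ (hmem b (hT (mem_sup_right (mem_zpowers b))))).symm
    · exact ⟨g * a * g⁻¹, hconj ha, hconj1 ha1, h1, (hvc _ (hmem a (hT (mem_sup_left (mem_zpowers a))))).symm⟩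
  · exact ⟨v, hvv, hv1, hvt, hvc t htS⟩

/-! ### `L₃(9)` -/

open Cfsg.Agent.CTFrame.SL3 Matrix in
theorem cent_dg_dvd {F : Type*} [Field F] [Finite F] (h2 : (2 : F) ≠ 0) :
    Nat.card (centralizer ({dg 0} : Set (S3 F))) ∣ Nat.card (SpecialLinearGroup (Fin 2) F) * Nat.card Fˣ := by
  have hcc : ∀ x : ↥(centralizer ({dg 0} : Set (S3 F))), (x.1 : S3 F) * (dg 0 : S3 F) = (dg 0 : S3 F) * x.1 :=
    fun x => mem_centralizer_singleton_iff.1 x.2
  let φ0 : ↥(centralizer ({dg 0} : Set (S3 F))) →* F :=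
    { toFun := fun g => en g.1 0 0
      map_one' := en_one 0 0
      map_mul' := by
        intro x y
        change en (x.1 * y.1) 0 0 = _
        have h1 := (LThreeModel.SL3.comm_dg h2 (hcc x) (i := 1) (c := 0) (by decide)).2
        have h3 := (LThreeModel.SL3.comm_dg h2 (hcc x) (i := 2) (c := 0) (by decide)).2
        rw [en_mul, Fin.sum_univ_three, h1, h3]
        ring }
  obtain ⟨φ, hφ⟩ : ∃ φ : ↥(centralizer ({dg 0} : Set (S3 F))) →* Fˣ, φ = φ0.toHomUnits := ⟨_, rfl⟩
  have hk : φ.ker.map (centralizer ({dg 0} : Set (S3 F))).subtype ≤ (Blk 0 : Subgroup (S3 F)) := by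
    rintro _ ⟨x, hx, rfl⟩ i
    have h1 : en x.1 0 0 = 1 := by
      have h3 : φ x = 1 := hx
      have h4 := congrArg (fun u : Fˣ => (u : F)) h3
      rw [hφ] at h4
      exact h4
    by_cases hi : i = 0
    · subst hi
      rw [if_pos rfl]
      exact ⟨h1, h1⟩
    · rw [if_neg hi]
      exact LThreeModel.SL3.comm_dg h2 (hcc x) hi
  have h3 := Subgroup.card_dvd_of_le hk
  rw [Subgroup.card_map_of_injective (centralizer ({dg 0} : Set (S3 F))).subtype_injective] at h3
  have h4 : Nat.card (Blk 0 : Subgroup (S3 F)) = Nat.card (SpecialLinearGroup (Fin 2) F) := by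
    rw [LThreeModel.SL3.Blk_eq_std (a := 1) (b := 2) (c := 0) (by decide) (by decide) (by decide)]
    obtain ⟨e⟩ := LThreeModel.SL3.std_equiv (F := F) (a := 1) (b := 2) (c := 0) (by decide) (by decide) (by decide)
    exact Nat.card_congr e.toEquiv
  rw [← Subgroup.card_mul_index φ.ker, Subgroup.index_ker]
  rw [h4] at h3
  exact Nat.mul_dvd_mul h3 (Subgroup.card_subgroup_dvd_card _)

theorem two_ne {F : Type*} [Field F] [Fintype F] {n : ℕ} (hF : Fintype.card F = 3 ^ n) : (2 : F) ≠ 0 := by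
  have : Fact (Nat.Prime 3) := ⟨Nat.prime_three⟩
  have : CharP F 3 := charP_of_card_eq_prime_pow (f := n) hF
  have h := (CharP.cast_eq_zero_iff F 3 2).not.2 (by decide)
  exact_mod_cast h

open Cfsg.Agent.CTFrame.SL3 Cfsg.Agent.LThreeModel.SL3 in
theorem psl3 {F : Type} [Field F] [Fintype F] (hF : Fintype.card F = 9) :
    NoInv (Matrix.ProjectiveSpecialLinearGroup (Fin 3) F) := by
  have h2 : (2 : F) ≠ 0 := two_ne (n := 2) (by rw [hF]; norm_num)
  intro t ht hd
  have hne : ∀ c, pr F (dg c) ≠ 1 := by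
    intro c h
    have h1 := std_inf_center (F := F) (a := 0) (b := 1) (c := 2) (by decide) (by decide) (by decide)
    rw [pr_eq_one] at h
    have h3 := center_pow h
    rw [pow_succ, pow_two, dg_sq, one_mul] at h3
    exact dg_ne h2 c h3
  have hsq : ∀ c, pr F (dg c) * pr F (dg c) = 1 := by
    intro c
    rw [← map_mul, dg_sq, map_one]
  have h01 : pr F (dg 0) ≠ pr F (dg 1) := by
    intro h
    apply hne 2
    rw [← dg_mul (a := 0) (b := 1) (c := 2) (by decide) (by decide) (by decide), map_mul, ← h, hsq]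
  have hc01 : pr F (dg 0) * pr F (dg 1) = pr F (dg 1) * pr F (dg 0) := by
    rw [← map_mul, ← map_mul, dg_mul (a := 0) (b := 1) (c := 2) (by decide) (by decide) (by decide),
      dg_mul (a := 1) (b := 0) (c := 2) (by decide) (by decide) (by decide)]
  obtain ⟨ht2, ht1⟩ := sq_of_ord ht
  obtain ⟨u, hu, hu1, hut, hc⟩ := exists_comm (hsq 0) (hne 0) (hsq 1) (hne 1) h01 hc01 ht
  obtain ⟨g, hg, -⟩ := exists_conj h2 ht2 hu ht1 hu1 (Ne.symm hut) hc (a := 0) (b := 1) (by decide)
  rw [← card_cent_conj g t, hg] at hd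
  have hle : centralizer ({pr F (dg 0)} : Set (S3 F ⧸ center (S3 F))) ≤
      (centralizer ({dg 0} : Set (S3 F))).map (pr F) := by
    intro x hx
    obtain ⟨X, rfl⟩ := pr_surj x
    refine ⟨X, ?_, rfl⟩
    have h1 := mem_centralizer_singleton_iff.1 hx
    exact mem_centralizer_singleton_iff.2 (comm_lift (dg_sq 0) h1.symm).symm
  have h5 := (hd.trans (Subgroup.card_dvd_of_le hle)).trans (Subgroup.card_map_dvd _ _)
  have h6 := h5.trans (cent_dg_dvd h2)
  rw [ClassicalGeometry.PSL2Basic.card_SL2, hF, Nat.card_units, Nat.card_eq_fintype_card, hF] at h6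
  revert h6
  decide

/-! ### `U₃(9)` -/

open Cfsg.Agent.LThreeModel.SU3 Cfsg.Agent.Phan Cfsg.Agent.LThreeExt.SU3 in
theorem cent_dg_dvd_su {F : Type u} [Field F] [Fintype F] {q : ℕ} (hF : Fintype.card F = q ^ 2) (h2 : (2 : F) ≠ 0) :
    Nat.card (centralizer ({dg hF 0} : Set (SU 3 F q))) ∣ (q * (q ^ 2 - 1)) * Nat.card Fˣ := by
  have hcc : ∀ x : ↥(centralizer ({dg hF 0} : Set (SU 3 F q))), x.1 * dg hF 0 = dg hF 0 * x.1 :=
    fun x => mem_centralizer_singleton_iff.1 x.2
  let φ0 : ↥(centralizer ({dg hF 0} : Set (SU 3 F q))) →* F :=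
    { toFun := fun g => CTFrame.SL3.en (g.1.1 : CTFrame.SL3.S3 F) 0 0
      map_one' := CTFrame.SL3.en_one 0 0
      map_mul' := by
        intro x y
        change CTFrame.SL3.en (x.1.1 * y.1.1 : CTFrame.SL3.S3 F) 0 0 = _
        have h1 : CTFrame.SL3.en (x.1.1 : CTFrame.SL3.S3 F) 0 1 = 0 := (comm_dg hF h2 (hcc x) (i := 1) (c := 0) (by decide)).2
        have h3 : CTFrame.SL3.en (x.1.1 : CTFrame.SL3.S3 F) 0 2 = 0 := (comm_dg hF h2 (hcc x) (i := 2) (c := 0) (by decide)).2
        rw [CTFrame.SL3.en_mul, Fin.sum_univ_three, h1, h3]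
        ring }
  obtain ⟨φ, hφ⟩ : ∃ φ : ↥(centralizer ({dg hF 0} : Set (SU 3 F q))) →* Fˣ, φ = φ0.toHomUnits := ⟨_, rfl⟩
  have hk : φ.ker.map (centralizer ({dg hF 0} : Set (SU 3 F q))).subtype ≤ std hF 0 := by
    rintro _ ⟨x, hx, rfl⟩
    apply mem_std_of_blk hF
    intro i
    have h1 : mat x.1 0 0 = 1 := by
      have h3 : φ x = 1 := hx
      have h4 := congrArg (fun u : Fˣ => (u : F)) h3
      rw [hφ] at h4
      exact h4
    by_cases hi : i = 0
    · subst hi
      rw [if_pos rfl]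
      exact ⟨h1, h1⟩
    · rw [if_neg hi]
      exact comm_dg hF h2 (hcc x) hi
  have h3 := Subgroup.card_dvd_of_le hk
  rw [Subgroup.card_map_of_injective (centralizer ({dg hF 0} : Set (SU 3 F q))).subtype_injective, card_std,
    card_SU2_nat hF] at h3
  rw [← Subgroup.card_mul_index φ.ker, Subgroup.index_ker]
  exact Nat.mul_dvd_mul h3 (Subgroup.card_subgroup_dvd_card _)

open Cfsg.Agent.LThreeModel.SU3 in
theorem psu3 {F : Type} [Field F] [Fintype F] (hF : Fintype.card F = 9 ^ 2) : NoInv (PSU 3 F 9) := by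
  have h2 : (2 : F) ≠ 0 := two_ne (n := 4) (by rw [hF]; norm_num)
  intro t ht hd
  have hne : ∀ c, pr F 9 (dg hF c) ≠ 1 := by
    intro c h
    rw [pr_eq_one] at h
    have h3 := center_pow hF h
    rw [pow_succ, pow_two, dg_sq, one_mul] at h3
    exact dg_ne hF h2 c h3
  have hsq : ∀ c, pr F 9 (dg hF c) * pr F 9 (dg hF c) = 1 := by
    intro c
    rw [← map_mul, dg_sq, map_one]
  have h01 : pr F 9 (dg hF 0) ≠ pr F 9 (dg hF 1) := by
    intro h
    apply hne 2
    rw [← dg_mul hF (a := 0) (b := 1) (c := 2) (by decide) (by decide) (by decide), map_mul, ← h, hsq]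
  have hc01 : pr F 9 (dg hF 0) * pr F 9 (dg hF 1) = pr F 9 (dg hF 1) * pr F 9 (dg hF 0) := by
    rw [← map_mul, ← map_mul, dg_mul hF (a := 0) (b := 1) (c := 2) (by decide) (by decide) (by decide),
      dg_mul hF (a := 1) (b := 0) (c := 2) (by decide) (by decide) (by decide)]
  obtain ⟨ht2, ht1⟩ := sq_of_ord ht
  obtain ⟨u, hu, hu1, hut, hc⟩ := exists_comm (hsq 0) (hne 0) (hsq 1) (hne 1) h01 hc01 ht
  obtain ⟨g, hg, -⟩ := exists_conj hF h2 ht2 hu ht1 hu1 (Ne.symm hut) hc (a := 0) (b := 1) (by decide)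
  rw [← card_cent_conj g t, hg] at hd
  have hle : centralizer ({pr F 9 (dg hF 0)} : Set (PSU 3 F 9)) ≤
      (centralizer ({dg hF 0} : Set (SU 3 F 9))).map (pr F 9) := by
    intro x hx
    obtain ⟨X, rfl⟩ := pr_surj x
    refine ⟨X, ?_, rfl⟩
    have h1 := mem_centralizer_singleton_iff.1 hx
    exact mem_centralizer_singleton_iff.2 (comm_lift hF (dg_sq hF 0) h1.symm).symm
  have h5 := (hd.trans (Subgroup.card_dvd_of_le hle)).trans (Subgroup.card_map_dvd _ _)
  have h6 := h5.trans (cent_dg_dvd_su hF h2)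
  rw [Nat.card_units, Nat.card_eq_fintype_card, hF] at h6
  revert h6
  decide

/-! ### `L₄(3)` -/

open Cfsg.Agent.KFacts.LFourThree Cfsg.Agent.ResEven in
theorem l43' : NoInv KFacts.LFourThree.L := by
  obtain ⟨τ, hτ⟩ : ∃ τ, τ = (GH.Cov.LieL4.pslEquiv (F := F3)).symm LFour.t := ⟨_, rfl⟩
  have hord : orderOf τ = 2 := by rw [hτ, MulEquiv.orderOf_eq, LFour.orderOf_t]
  have hcard : Nat.card (centralizer ({τ} : Set KFacts.LFourThree.L)) =
      Nat.card (centralizer ({LFour.t} : Set LFour.L)) := by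
    rw [hτ, H343.card_centralizer_equiv]
  have h1 := LFour.card_H
  rw [LFour.card_H', ← hcard] at h1
  have h4 : 360 ∣ Nat.card (centralizer ({τ} : Set KFacts.LFourThree.L)) := by
    rw [hcard]
    exact LFour.card_N ▸ card_dvd_of_le LFour.N_le
  obtain ⟨hτ2, hτ1⟩ := sq_of_ord hord
  obtain ⟨g, hg | hg⟩ := OddHalf.NI3.Bad.RowL4.cls hτ2 hτ1
  · exfalso
    rw [← card_cent_conj g τ, hg, card_cent] at h4
    revert h4
    decide
  · rw [← card_cent_conj g τ, hg] at h1 h4
    intro t ht hd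
    obtain ⟨ht2, ht1⟩ := sq_of_ord ht
    obtain ⟨c, hc | hc⟩ := OddHalf.NI3.Bad.RowL4.cls ht2 ht1
    · rw [← card_cent_conj c t, hc, card_cent] at hd
      revert hd
      decide
    · rw [← card_cent_conj c t, hc] at hd
      have hpos : 0 < Nat.card (centralizer ({i * k} : Set KFacts.LFourThree.L)) := Nat.card_pos
      omega

theorem l43 {F : Type} [Field F] [Fintype F] (hF : Fintype.card F = 3) :
    NoInv (Matrix.ProjectiveSpecialLinearGroup (Fin 4) F) := by
  obtain ⟨e⟩ := LargeExtra.W2.LFour.PslFacts.psl_congr F hF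
  exact l43'.congr e

/-! ### `U₄(3)` -/

theorem u43 {F : Type} [Field F] [Fintype F] (hF : Fintype.card F = 3 ^ 2) : NoInv (PSU 4 F 3) := by
  have hF9 : Fintype.card F = 9 := by rw [hF]; norm_num
  have : Fact (Nat.Prime 3) := ⟨Nat.prime_three⟩
  have : CharP F 3 := charP_of_card_eq_prime_pow (f := 2) hF
  obtain ⟨i, j, k, l, x₁, x₂, y, s, h, -, -⟩ := OddHalf.D6.QThree.U43Tw.exists_tw (F := F) hF9
  intro t ht hd
  obtain ⟨ht2, ht1⟩ := sq_of_ord ht
  obtain ⟨g, hg⟩ := OddHalf.D6.QThree.U43Tw.one_class hF9 t ht2 ht1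
  rw [← hg, card_cent_conj, h.card_cent] at hd
  revert hd
  decide

/-! ### `G₂(3)` -/

open Cfsg.Agent.OddHalf in
theorem g23_model : NoInv ↥GTwoThree.Model.Gp := by
  intro t ht hd
  obtain ⟨c, hc⟩ := Small.G23.exists_conj ht
  have h' : Nat.card (centralizer ({Small.G23.z} : Set ↥GTwoThree.Model.Gp)) = 576 :=
    D6.QThree.G23Facts.card_cent D6.QThree.G23Facts.words
  rw [← card_cent_conj c t, hc, h'] at hd
  revert hd
  decide

theorem g23 {F : Type} [Field F] [Fintype F] (hF : Fintype.card F = 3) : NoInv ↥(Lie.chevG2.group F) := by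
  have h3 : Fintype.card (ZMod 3) = Fintype.card F := by rw [hF]; rfl
  let φ : ZMod 3 ≃+* F := FiniteField.ringEquivOfCardEq h3
  exact g23_model.congr (ChevalleyStructure.FieldIso.groupEquiv Lie.chevG2 φ)

/-! ### `HN`, `McL`, `Co2` -/

theorem hn {K : Type*} [Group K] (h : Spor.IsoHN K) : NoInv K := by
  obtain ⟨e⟩ := h
  intro t ht h405
  rw [← H343.card_centralizer_equiv e t] at h405
  rcases SigZeroHN.card_centralizer_cases (u := e t) (by rw [← ht]; exact e.orderOf_eq t) with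
    ⟨-, h⟩ | ⟨-, h⟩ <;> rw [h] at h405 <;> revert h405 <;> decide

theorem cen_false {K : Type*} [Group K] (hf : H261.Fac K 6)
    (h : ∃ x : K, orderOf x = 3 ∧ 3645 ∣ Nat.card (centralizer ({x} : Set K))) : False := by
  obtain ⟨x, hx, hd⟩ := h
  have h1 := hf.cen x hx ((by norm_num : 3 ^ 6 ∣ 3645).trans hd)
  have h2 := hd.trans h1
  revert h2
  decide

/-! ### `L₂(3^6)` -/

open Matrix in
theorem psl2 {F : Type} [Field F] [Fintype F] (hF : Fintype.card F = 729)
    (hf : H261.Fac (ProjectiveSpecialLinearGroup (Fin 2) F) 6) : False := by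
  have : Fact (Nat.Prime 3) := ⟨Nat.prime_three⟩
  let f : Multiplicative F →* ProjectiveSpecialLinearGroup (Fin 2) F :=
    { toFun := fun a => QuotientGroup.mk' (center (SpecialLinearGroup (Fin 2) F))
        (SpecialLinearGroup.transvection (zero_ne_one : (0 : Fin 2) ≠ 1) a.toAdd)
      map_one' := by
        rw [toAdd_one, SpecialLinearGroup.transvection_coeff_zero, map_one]
      map_mul' := by
        intro a b
        rw [toAdd_mul, SpecialLinearGroup.transvection_add, map_mul] }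
  have hfi : Function.Injective f := by
    rw [injective_iff_map_eq_one]
    intro a ha
    have h1 : SpecialLinearGroup.transvection (zero_ne_one : (0 : Fin 2) ≠ 1) a.toAdd ∈
        center (SpecialLinearGroup (Fin 2) F) := (QuotientGroup.eq_one_iff _).1 ha
    rw [SpecialLinearGroup.transvection_mem_center_iff] at h1
    exact Multiplicative.toAdd.injective h1
  have hc : Nat.card f.range = 3 ^ 6 := by
    rw [← Nat.card_congr (MonoidHom.ofInjective hfi).toEquiv]
    rw [Nat.card_congr Multiplicative.toAdd, Nat.card_eq_fintype_card, hF]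
    norm_num
  have h1 := hf.hab f.range (IsPGroup.of_card hc) (by
    rintro _ ⟨a, rfl⟩ _ ⟨b, rfl⟩
    rw [← map_mul, ← map_mul, mul_comm])
  rw [hc] at h1
  norm_num at h1

theorem Fac.congr {K L : Type*} [Group K] [Group L] (e : K ≃* L) {v : ℕ} (h : H261.Fac K v) : H261.Fac L v where
  dv := by rw [← Nat.card_congr e.toEquiv]; exact h.dv
  nv := by rw [← Nat.card_congr e.toEquiv]; exact h.nv
  hab := by
    intro A hA hc
    have h1 := h.hab (A.map e.symm.toMonoidHom) (hA.map _) (by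
      rintro _ ⟨a, ha, rfl⟩ _ ⟨b, hb, rfl⟩
      rw [← map_mul, ← map_mul, hc a ha b hb])
    rwa [Subgroup.card_map_of_injective e.symm.injective] at h1
  cen := by
    intro y hy hd
    have h1 := H343.card_centralizer_equiv e.symm y
    rw [← h1] at hd ⊢
    exact h.cen _ ((MulEquiv.orderOf_eq e.symm y).trans hy) hd
  ex := by
    obtain ⟨y, hy, hc⟩ := h.ex
    exact ⟨e y, (MulEquiv.orderOf_eq e y).trans hy, by rw [H343.card_centralizer_equiv e y]; exact hc⟩
  inv := by
    obtain ⟨y, hy, hc⟩ := h.inv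
    exact ⟨e y, (MulEquiv.orderOf_eq e y).trans hy, by rw [H343.card_centralizer_equiv e y]; exact hc⟩
  sf := by
    intro hv
    obtain ⟨y, hy, hc⟩ := h.sf hv
    exact ⟨e y, (MulEquiv.orderOf_eq e y).trans hy, by rw [H343.card_centralizer_equiv e y]; exact hc⟩

/-- **The survivors.** -/
theorem surv6_false {K : Type u} [Group K] {g : Grp} (hg : g ∈ H815.Six3.surv) (hr : Real g K) (h : H261.Fac K 6) :
    False := by
  simp only [H815.Six3.surv, List.mem_cons, List.not_mem_nil, or_false] at hg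
  rcases hg with rfl | rfl | rfl | rfl | rfl | rfl | rfl | rfl | rfl
  · obtain ⟨F, _, _, hF, ⟨e⟩⟩ := hr
    exact psl2 hF (Fac.congr e h)
  · obtain ⟨F, _, _, hF, ⟨e⟩⟩ := hr
    exact (psl3 hF).false (Fac.congr e h)
  · obtain ⟨F, _, _, hF, ⟨e⟩⟩ := hr
    exact (l43 hF).false (Fac.congr e h)
  · obtain ⟨F, _, _, hF, ⟨e⟩⟩ := hr
    exact (psu3 hF).false (Fac.congr e h)
  · obtain ⟨F, _, _, hF, ⟨e⟩⟩ := hr
    exact (u43 hF).false (Fac.congr e h)
  · obtain ⟨F, _, _, hF, ⟨e⟩⟩ := hr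
    exact (g23 hF).false (Fac.congr e h)
  · exact cen_false h (SurvMcL.exists_mcl hr)
  · exact cen_false h (SurvMcL.exists_co2 hr)
  · exact (hn hr).false h

end Cfsg.Agent.H838.SurvSix
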