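import Cfsg.Agent.LThreeFi23.TwoCl
import Cfsg.Agent.H838.Sym
import Cfsg.Agent.H838.Norm

/-!
# `Fi23` on 31671 points: subgroups generated by letters, stabilizer steps, the class of transpositions (helper838)
-/

set_option autoImplicit false
set_option linter.constructorNameAsVariable false
set_option maxRecDepth 100000

namespace Cfsg.Agent.H838.Fi23

open Subgroup Cfsg Cfsg.Agent.Lib.PermNet Cfsg.Agent.Fischer.Fi23Hom Cfsg.Agent.LThreeFi23
open Cfsg.Spor (Fi23)

/-- the subgroup generated by the letters of a list -/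
def SL (L : List Lt) : Subgroup Fi23 := closure {x | ∃ l ∈ L, x = el l}

theorem el_mem {L : List Lt} {l : Lt} (h : l ∈ L) : el l ∈ SL L := subset_closure ⟨l, h, rfl⟩

theorem elw_mem {L u : List Lt} (h : ∀ x ∈ u, x ∈ L) : elw u ∈ SL L := by
  induction u with
  | nil => rw [elw_nil]; exact one_mem _
  | cons x u ih =>
    rw [elw_cons]
    exact mul_mem (el_mem (h x List.mem_cons_self)) (ih fun y hy => h y (List.mem_cons_of_mem _ hy))

theorem SL_comm {L : List Lt} {g : Fi23} (h : ∀ l ∈ L, g * el l = el l * g) {x : Fi23} (hx : x ∈ SL L) :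
    g * x = x * g := by
  have h1 : SL L ≤ centralizer ({g} : Set Fi23) := by
    unfold SL
    rw [closure_le]
    rintro _ ⟨l, hl, rfl⟩
    rw [SetLike.mem_coe, mem_centralizer_singleton_iff]
    exact (h l hl).symm
  exact (mem_centralizer_singleton_iff.1 (h1 hx)).symm

theorem SL_fix {L : List Lt} {p : ℕ} (h : ∀ l ∈ L, rho (el l) p = p) {x : Fi23} (hx : x ∈ SL L) : rho x p = p := by
  induction hx using closure_induction with
  | mem x hx => obtain ⟨l, hl, rfl⟩ := hx; exact h l hl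
  | one => rw [map_one]; rfl
  | mul x y _ _ hx hy => rw [map_mul, Equiv.Perm.mul_apply, hy, hx]
  | inv x _ hx => rw [map_inv, Equiv.Perm.inv_eq_iff_eq, hx]

/-- the list of letters contains the letter -/
def memL (L : List Lt) (x : Lt) : Bool := L.any fun y => decide (y = x)

theorem memL_spec {L : List Lt} {x : Lt} (h : memL L x = true) : x ∈ L := by
  unfold memL at h
  rw [List.any_eq_true] at h
  obtain ⟨y, hy, h⟩ := h
  rw [decide_eq_true_iff] at h
  rwa [← h]

/-- the words of the data map `p0` to the points, fix the points `fx` and have letters in `L` -/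
noncomputable def stepChk (L : List Lt) (p0 : ℕ) (fx : List ℕ) (dat : List (ℕ × List Lt)) : Bool :=
  dat.all fun d => (Nat.beq (ptw d.2 p0) d.1) && (fx.all fun q => Nat.beq (ptw d.2 q) q) && (d.2.all fun x => memL L x)

theorem stepChk_spec {L : List Lt} {p0 : ℕ} {fx : List ℕ} {dat : List (ℕ × List Lt)}
    (h : stepChk L p0 fx dat = true) : ∀ d ∈ dat, rho (elw d.2) p0 = d.1 ∧ (∀ q ∈ fx, rho (elw d.2) q = q) ∧
      elw d.2 ∈ SL L := by
  unfold stepChk at h
  rw [List.all_eq_true] at h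
  intro d hd
  have h1 := h d hd
  rw [Bool.and_eq_true, Bool.and_eq_true, List.all_eq_true, List.all_eq_true] at h1
  obtain ⟨⟨h2, h3⟩, h4⟩ := h1
  refine ⟨?_, ?_, elw_mem fun x hx => memL_spec (h4 x hx)⟩
  · rw [← ptw_eq]; exact Nat.eq_of_beq_eq_true h2
  · intro q hq
    rw [← ptw_eq]; exact Nat.eq_of_beq_eq_true (h3 q hq)

/-- **one step of the stabilizer chain** -/
theorem chain_step {L : List Lt} {cs : List (List Lt × Bool)} {p0 : ℕ} {fx ex : List ℕ} {dat : List (ℕ × List Lt)}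
    (hpat : pchk cs (dat.map Prod.fst ++ ex) = true) (hst : stepChk L p0 fx dat = true)
    (hp0 : p0 ∈ dat.map Prod.fst) (hex : ∀ q ∈ ex, q ∈ fx) (hp0' : p0 ∉ ex) {w : Fi23}
    (hw : ∀ c ∈ cs, w * elw c.1 = elw c.1 * w) (hfx : ∀ q ∈ fx, rho w q = q) :
    ∃ s ∈ SL L, rho (s⁻¹ * w) p0 = p0 ∧ ∀ q ∈ fx, rho s q = q := by
  have h1 := pchk_act hpat hw (p := p0) (List.mem_append_left _ hp0)
  rw [List.mem_append] at h1
  rcases h1 with h1 | h1
  · obtain ⟨d, hd, hd'⟩ := List.mem_map.1 h1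
    obtain ⟨h2, h3, h4⟩ := stepChk_spec hst d hd
    refine ⟨elw d.2, h4, ?_, h3⟩
    rw [map_mul, Equiv.Perm.mul_apply, ← hd', ← h2, map_inv, Equiv.Perm.inv_eq_iff_eq]
  · exfalso
    have h2 := hfx _ (hex _ h1)
    have h3 : rho w p0 = p0 := (rho w).injective h2
    rw [h3] at h1
    exact hp0' h1

/-! ### The class of transpositions -/

/-- the transpositions of `Fi23` -/
def DD : Set Fi23 := {x | ∃ p < 31671, x = T p}

theorem T_mem {p : ℕ} (hp : p < 31671) : T p ∈ DD := ⟨p, hp, rfl⟩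

theorem el_mem_DD (x : Lt) : el x ∈ DD := ⟨pt x, pt_lt x, (T_pt x).symm⟩

theorem DD_conj (g : Fi23) {x : Fi23} (hx : x ∈ DD) : g * x * g⁻¹ ∈ DD := by
  obtain ⟨p, hp, rfl⟩ := hx
  exact ⟨_, act_lt g hp, (T_act g hp).symm⟩

theorem DD_eq (x : Lt) : DD = {y | ∃ g : Fi23, y = g * el x * g⁻¹} := by
  ext y
  constructor
  · rintro ⟨p, hp, rfl⟩
    obtain ⟨g, hg⟩ := exists_rep hp
    obtain ⟨k, hk⟩ := exists_rep (pt_lt x)
    refine ⟨g * k⁻¹, ?_⟩
    have h1 : rho (g * k⁻¹) (pt x) = p := by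
      rw [map_mul, Equiv.Perm.mul_apply, ← hk, map_inv, Equiv.Perm.inv_eq_iff_eq.2 rfl, hg]
    rw [← h1, T_act _ (pt_lt x), T_pt]
  · rintro ⟨g, rfl⟩
    exact DD_conj g (el_mem_DD x)

theorem mem_DD_centralizer {w : Fi23} {x : Fi23} :
    x ∈ DD ∩ (centralizer ((zpowers w : Subgroup Fi23) : Set Fi23) : Set Fi23) ↔
      ∃ p < 31671, rho w p = p ∧ x = T p := by
  constructor
  · rintro ⟨⟨p, hp, rfl⟩, h⟩
    refine ⟨p, hp, ?_, rfl⟩
    rw [fix_iff w hp]
    exact (mem_centralizer_iff.1 h) w (mem_zpowers w)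
  · rintro ⟨p, hp, h, rfl⟩
    refine ⟨T_mem hp, ?_⟩
    rw [SetLike.mem_coe, mem_centralizer_iff]
    rintro _ ⟨i, rfl⟩
    exact (((show Commute w (T p) from (fix_iff w hp).1 h)).zpow_left i).eq

end Cfsg.Agent.H838.Fi23
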