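import Cfsg.Agent.LieClassical.OrthTrans

/-!
# Closed sections of 3-transpositions labelled by a quadratic space over `F_2` (helper838, TT2 of S5554)

`Lab D Q vec`: the set `D` of involutions is labelled by the vectors `w` with `Q w = 1`.
`Sec D Q vec R s`: `s w ∈ D` has the label `w`, for `w ∈ R`, and `s` respects third points.
`Sec.ext`: extension of `s` to a coset of `R`.
-/

set_option autoImplicit false

namespace Cfsg.Agent.H838.TT

open QuadraticMap Cfsg.Agent.LieClassical.OrthCore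

variable {G : Type*} [Group G] {W : Type*} [AddCommGroup W] [Module (ZMod 2) W]

/-- a set of 3-transpositions labelled by the vectors with `Q = 1` -/
structure Lab (D : Set G) (Q : QuadraticForm (ZMod 2) W) (vec : G → W) : Prop where
  sq : ∀ d ∈ D, d * d = 1
  q : ∀ d ∈ D, Q (vec d) = 1
  comm : ∀ d ∈ D, ∀ e ∈ D, polar Q (vec d) (vec e) = 0 → d * e = e * d
  braid : ∀ d ∈ D, ∀ e ∈ D, polar Q (vec d) (vec e) = 1 → d * e * d = e * d * e
  mem : ∀ d ∈ D, ∀ e ∈ D, polar Q (vec d) (vec e) = 1 → d * e * d ∈ D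
  add : ∀ d ∈ D, ∀ e ∈ D, polar Q (vec d) (vec e) = 1 → vec (d * e * d) = vec d + vec e
  surj : ∀ w, Q w = 1 → ∃ d ∈ D, vec d = w

/-- a closed section over the vectors of `R` -/
structure Sec (D : Set G) (Q : QuadraticForm (ZMod 2) W) (vec : G → W) (R : Submodule (ZMod 2) W) (s : W → G) :
    Prop where
  mem : ∀ x ∈ R, Q x = 1 → s x ∈ D
  lab : ∀ x ∈ R, Q x = 1 → vec (s x) = x
  conj : ∀ x ∈ R, ∀ y ∈ R, Q x = 1 → Q y = 1 → polar Q x y = 1 → s x * s y * s x = s (x + y)

section Basic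

variable {Q : QuadraticForm (ZMod 2) W}

theorem zo : ∀ a : ZMod 2, a = 0 ∨ a = 1 := by decide

theorem add_self (x : W) : x + x = 0 := by
  rw [← two_smul (ZMod 2) x, show (2 : ZMod 2) = 0 by decide, zero_smul]

theorem add_cancel2 (x y : W) : x + (x + y) = y := by rw [← add_assoc, add_self, zero_add]

theorem p_self (x : W) : polar Q x x = 0 := by
  rw [polar_self', show (2 : ZMod 2) = 0 by decide, zero_mul]

theorem p_comm (x y : W) : polar Q x y = polar Q y x := polar_comm _ _ _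

theorem p_add (x y z : W) : polar Q x (y + z) = polar Q x y + polar Q x z := polar_add_right _ _ _ _

theorem p_add' (x y z : W) : polar Q (x + y) z = polar Q x z + polar Q y z := polar_add_left _ _ _ _

end Basic

section Ext

variable {D : Set G} {Q : QuadraticForm (ZMod 2) W} {vec : G → W} {R : Submodule (ZMod 2) W} {s : W → G}

/-- transport from the class `a` to the class `b` -/
def tr (s : W → G) (a b : W) (d : G) : G := s (a + b) * d * s (a + b)

variable (L : Lab D Q vec) (S : Sec D Q vec R s)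

include L in
theorem Lab.inv {d : G} (hd : d ∈ D) : d⁻¹ = d := inv_eq_of_mul_eq_one_left (L.sq d hd)

/-- the vectors of the coset -/
def Co (Q : QuadraticForm (ZMod 2) W) (R : Submodule (ZMod 2) W) (a0 : W) : Set W := {a | a + a0 ∈ R ∧ Q a = 1}

theorem add_mem_of {a0 a b : W} (ha : a ∈ Co Q R a0) (hb : b ∈ Co Q R a0) : a + b ∈ R := by
  have h := R.add_mem ha.1 hb.1
  have e : a + a0 + (b + a0) = a + b + (a0 + a0) := by abel
  rwa [e, add_self, add_zero] at h

theorem Q_add_of {a0 a b : W} (ha : a ∈ Co Q R a0) (hb : b ∈ Co Q R a0) (hab : polar Q a b = 1) : Q (a + b) = 1 := by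
  rw [Q_add, ha.2, hb.2, hab]
  decide

include L S

theorem tr_mem {a0 a b : W} (ha : a ∈ Co Q R a0) (hb : b ∈ Co Q R a0) (hab : polar Q a b = 1) {d : G} (hd : d ∈ D)
    (hv : vec d = a) : tr s a b d ∈ D ∧ vec (tr s a b d) = b := by
  have h1 := add_mem_of ha hb
  have h2 := Q_add_of ha hb hab
  have h3 : polar Q (vec (s (a + b))) (vec d) = 1 := by
    rw [S.lab _ h1 h2, hv, p_add', p_self, zero_add, p_comm, hab]
  refine ⟨L.mem _ (S.mem _ h1 h2) _ hd h3, ?_⟩
  rw [tr, L.add _ (S.mem _ h1 h2) _ hd h3, S.lab _ h1 h2, hv, add_comm a b, add_assoc, add_self, add_zero]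

theorem tr_tr {a0 a b : W} (ha : a ∈ Co Q R a0) (hb : b ∈ Co Q R a0) (hab : polar Q a b = 1) (d : G) :
    tr s b a (tr s a b d) = d := by
  have h1 := L.sq _ (S.mem _ (add_mem_of ha hb) (Q_add_of ha hb hab))
  rw [tr, tr, add_comm b a]
  calc s (a + b) * (s (a + b) * d * s (a + b)) * s (a + b) =
      (s (a + b) * s (a + b)) * d * (s (a + b) * s (a + b)) := by simp only [mul_assoc]
    _ = d := by rw [h1, one_mul, mul_one]

/-- triangles -/
theorem tri {a0 a b c : W} (ha : a ∈ Co Q R a0) (hb : b ∈ Co Q R a0) (hc : c ∈ Co Q R a0) (hab : polar Q a b = 1)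
    (hbc : polar Q b c = 1) (hac : polar Q a c = 1) {d : G} (hd : d ∈ D) (hv : vec d = a) :
    tr s b c (tr s a b d) = tr s a c d := by
  have m1 := add_mem_of ha hb
  have m2 := add_mem_of hb hc
  have q1 := Q_add_of ha hb hab
  have q2 := Q_add_of hb hc hbc
  set g := s (a + b) with hg
  set h := s (b + c) with hh
  have hgg : g * g = 1 := L.sq _ (S.mem _ m1 q1)
  have hhh : h * h = 1 := L.sq _ (S.mem _ m2 q2)
  have hp : polar Q (a + b) (b + c) = 1 := by
    rw [p_add', p_add, p_add, hab, hac, p_self, hbc]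
    decide
  have hp' : polar Q (b + c) (a + b) = 1 := by rw [p_comm, hp]
  have e1 : g * h * g = s (a + c) := by
    rw [hg, hh, S.conj _ m1 _ m2 q1 q2 hp]
    congr 1
    rw [add_assoc, add_cancel2]
  have e2 : h * g * h = s (a + c) := by
    rw [hg, hh, S.conj _ m2 _ m1 q2 q1 hp']
    congr 1
    rw [add_comm a b, add_add_add_comm, add_self, zero_add, add_comm]
  have hcomm : h * d = d * h := by
    apply L.comm _ (S.mem _ m2 q2) _ hd
    rw [S.lab _ m2 q2, hv, p_add', p_comm b a, p_comm c a, hab, hac]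
    decide
  have e3 : h * g = s (a + c) * h := by rw [← e2, mul_assoc, hhh, mul_one]
  have e4 : g * h = h * s (a + c) := by
    rw [← e2]
    simp only [← mul_assoc]
    rw [hhh, one_mul]
  rw [tr, tr, tr, ← hg, ← hh]
  calc h * (g * d * g) * h = (h * g) * d * (g * h) := by simp only [mul_assoc]
    _ = s (a + c) * (h * d) * (h * s (a + c)) := by rw [e3, e4]; simp only [mul_assoc]
    _ = s (a + c) * (d * (h * h)) * s (a + c) := by rw [hcomm]; simp only [mul_assoc]
    _ = _ := by rw [hhh, mul_one]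

/-- the parallelogram -/
theorem para {a0 x a x' : W} (h0 : a0 ∈ Co Q R a0) (hx : x ∈ Co Q R a0) (ha : a ∈ Co Q R a0) (_hx' : x' ∈ Co Q R a0)
    (h1 : polar Q a0 x = 1) (h2 : polar Q x a = 1) (h3 : polar Q a0 a = 0) (hs : a0 + x + a + x' = 0) (d : G) :
    tr s x a (tr s a0 x d) = tr s x' a (tr s a0 x' d) := by
  have e1 : x' + a = a0 + x := by
    have : (a0 + x) + (x' + a) = 0 := by rw [← hs]; abel
    exact (add_left_cancel (this.trans (add_self (a0 + x)).symm))
  have e2 : a0 + x' = x + a := by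
    have : (x + a) + (a0 + x') = 0 := by rw [← hs]; abel
    exact (add_left_cancel (this.trans (add_self (x + a)).symm))
  have m1 := add_mem_of h0 hx
  have m2 := add_mem_of hx ha
  have q1 := Q_add_of h0 hx h1
  have q2 := Q_add_of hx ha h2
  have hcomm : s (x + a) * s (a0 + x) = s (a0 + x) * s (x + a) := by
    apply L.comm _ (S.mem _ m2 q2) _ (S.mem _ m1 q1)
    rw [S.lab _ m2 q2, S.lab _ m1 q1, p_add', p_add, p_add, p_comm x a0, h1, p_self, p_comm a a0, h3, p_comm a x, h2]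
    decide
  rw [tr, tr, tr, tr, e1, e2]
  calc s (x + a) * (s (a0 + x) * d * s (a0 + x)) * s (x + a) =
      (s (x + a) * s (a0 + x)) * d * (s (a0 + x) * s (x + a)) := by simp only [mul_assoc]
    _ = (s (a0 + x) * s (x + a)) * d * (s (x + a) * s (a0 + x)) := by rw [hcomm]
    _ = _ := by simp only [mul_assoc]

omit L S

/-- the combinatorial hypotheses on the coset -/
structure Conn (Q : QuadraticForm (ZMod 2) W) (R : Submodule (ZMod 2) W) (a0 : W) : Prop where
  q0 : Q a0 = 1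
  nbr : ∀ a ∈ Co Q R a0, a ≠ a0 → polar Q a0 a = 0 → ∃ x ∈ Co Q R a0, polar Q a0 x = 1 ∧ polar Q x a = 1
  quad : ∀ a ∈ Co Q R a0, a ≠ a0 → polar Q a0 a = 0 → ∀ x ∈ Co Q R a0, ∀ x' ∈ Co Q R a0,
    polar Q a0 x = 1 → polar Q x a = 1 → polar Q a0 x' = 1 → polar Q x' a = 1 → polar Q x x' = 0 → x ≠ x' →
    a0 + x + a + x' = 0 ∨ ∃ z ∈ Co Q R a0, polar Q a0 z = 1 ∧ polar Q z a = 1 ∧ polar Q x z = 1 ∧ polar Q z x' = 1
  edge : ∀ a ∈ Co Q R a0, ∀ b ∈ Co Q R a0, polar Q a b = 1 → polar Q a0 a = 0 → polar Q a0 b = 0 →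
    ∃ x ∈ Co Q R a0, polar Q a0 x = 1 ∧ polar Q x a = 1 ∧ polar Q x b = 1

/-- sections on the coset -/
theorem exists_coset (L : Lab D Q vec) (S : Sec D Q vec R s) {a0 : W} (C : Conn Q R a0) :
    ∃ s1 : W → G, (∀ a ∈ Co Q R a0, s1 a ∈ D ∧ vec (s1 a) = a) ∧
      ∀ a ∈ Co Q R a0, ∀ b ∈ Co Q R a0, polar Q a b = 1 → tr s a b (s1 a) = s1 b := by
  classical
  have h0 : a0 ∈ Co Q R a0 := ⟨by rw [add_self]; exact R.zero_mem, C.q0⟩
  obtain ⟨d0, hd0, hv0⟩ := L.surj a0 C.q0
  -- independence of the path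
  have ind1 : ∀ a ∈ Co Q R a0, ∀ x ∈ Co Q R a0, ∀ x' ∈ Co Q R a0, polar Q a0 x = 1 → polar Q x a = 1 →
      polar Q a0 x' = 1 → polar Q x' a = 1 → polar Q x x' = 1 →
      tr s x a (tr s a0 x d0) = tr s x' a (tr s a0 x' d0) := by
    intro a ha x hx x' hx' h1 h2 h3 h4 h5
    obtain ⟨m1, v1⟩ := tr_mem L S h0 hx h1 hd0 hv0
    rw [← tri L S h0 hx hx' h1 h5 h3 hd0 hv0, tri L S hx hx' ha h5 h4 h2 m1 v1]
  have ind : ∀ a ∈ Co Q R a0, a ≠ a0 → polar Q a0 a = 0 → ∀ x ∈ Co Q R a0, ∀ x' ∈ Co Q R a0,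
      polar Q a0 x = 1 → polar Q x a = 1 → polar Q a0 x' = 1 → polar Q x' a = 1 →
      tr s x a (tr s a0 x d0) = tr s x' a (tr s a0 x' d0) := by
    intro a ha hne h0a x hx x' hx' h1 h2 h3 h4
    by_cases hxx : x = x'
    · rw [hxx]
    rcases zo (polar Q x x') with h5 | h5
    · rcases C.quad a ha hne h0a x hx x' hx' h1 h2 h3 h4 h5 hxx with h6 | ⟨z, hz, z1, z2, z3, z4⟩
      · exact para L S h0 hx ha hx' h1 h2 h0a h6 d0
      · rw [ind1 a ha x hx z hz h1 h2 z1 z2 z3, ind1 a ha z hz x' hx' z1 z2 h3 h4 z4]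
    · exact ind1 a ha x hx x' hx' h1 h2 h3 h4 h5
  -- the definition
  have hch : ∀ a : W, ∃ x : W, a ∈ Co Q R a0 → a ≠ a0 → polar Q a0 a = 0 →
      x ∈ Co Q R a0 ∧ polar Q a0 x = 1 ∧ polar Q x a = 1 := by
    intro a
    by_cases h : a ∈ Co Q R a0 ∧ a ≠ a0 ∧ polar Q a0 a = 0
    · obtain ⟨x, hx, h1⟩ := C.nbr a h.1 h.2.1 h.2.2
      exact ⟨x, fun _ _ _ => ⟨hx, h1⟩⟩
    · exact ⟨0, fun h1 h2 h3 => absurd ⟨h1, h2, h3⟩ h⟩
  choose c hc using hch
  let s1 : W → G := fun a => if a = a0 then d0 else if polar Q a0 a = 1 then tr s a0 a d0 else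
    tr s (c a) a (tr s a0 (c a) d0)
  have e0 : s1 a0 = d0 := if_pos rfl
  have ne_of : ∀ {a : W}, polar Q a0 a = 1 → a ≠ a0 := by
    rintro a h rfl
    rw [p_self] at h
    exact absurd h (by decide)
  have e1 : ∀ {a : W}, polar Q a0 a = 1 → s1 a = tr s a0 a d0 := by
    intro a h
    change (if a = a0 then _ else _) = _
    rw [if_neg (ne_of h), if_pos h]
  have e2 : ∀ {a : W}, a ∈ Co Q R a0 → a ≠ a0 → polar Q a0 a = 0 → ∀ x ∈ Co Q R a0, polar Q a0 x = 1 →
      polar Q x a = 1 → s1 a = tr s x a (tr s a0 x d0) := by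
    intro a ha hne h x hx h1 h2
    change (if a = a0 then _ else _) = _
    rw [if_neg hne, if_neg (by rw [h]; decide)]
    obtain ⟨m1, m2, m3⟩ := hc a ha hne h
    exact ind a ha hne h (c a) m1 x hx m2 m3 h1 h2
  refine ⟨s1, ?_, ?_⟩
  · intro a ha
    by_cases hne : a = a0
    · rw [hne, e0]
      exact ⟨hd0, hv0⟩
    rcases zo (polar Q a0 a) with h | h
    · obtain ⟨m1, m2, m3⟩ := hc a ha hne h
      rw [e2 ha hne h (c a) m1 m2 m3]
      obtain ⟨m4, v4⟩ := tr_mem L S h0 m1 m2 hd0 hv0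
      exact tr_mem L S m1 ha m3 m4 v4
    · rw [e1 h]
      exact tr_mem L S h0 ha h hd0 hv0
  · -- edges; first the mixed case
    have mix : ∀ a ∈ Co Q R a0, ∀ b ∈ Co Q R a0, polar Q a b = 1 → polar Q a0 a = 1 → polar Q a0 b = 0 →
        b ≠ a0 → tr s a b (s1 a) = s1 b := by
      intro a ha b hb hab h1 h2 h3
      rw [e1 h1, e2 hb h3 h2 a ha h1 hab]
    intro a ha b hb hab
    by_cases ha0 : a = a0
    · subst ha0
      rw [e0, e1 hab]
    by_cases hb0 : b = a0
    · subst hb0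
      rw [e1 (by rw [p_comm]; exact hab), e0]
      exact tr_tr L S hb ha (by rw [p_comm]; exact hab) d0
    rcases zo (polar Q a0 a) with h1 | h1 <;> rcases zo (polar Q a0 b) with h2 | h2
    · obtain ⟨x, hx, x1, x2, x3⟩ := C.edge a ha b hb hab h1 h2
      obtain ⟨m4, v4⟩ := tr_mem L S h0 hx x1 hd0 hv0
      rw [e2 ha ha0 h1 x hx x1 x2, e2 hb hb0 h2 x hx x1 x3]
      exact tri L S hx ha hb x2 hab x3 m4 v4
    · have h3 := mix b hb a ha (by rw [p_comm]; exact hab) h2 h1 ha0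
      rw [← h3]
      exact tr_tr L S hb ha (by rw [p_comm]; exact hab) _
    · exact mix a ha b hb hab h1 h2 hb0
    · rw [e1 h1, e1 h2]
      exact tri L S h0 ha hb h1 hab h2 hd0 hv0

/-- **Extension of a closed section to a coset.** -/
theorem Sec.ext (L : Lab D Q vec) (S : Sec D Q vec R s) {a0 : W} (C : Conn Q R a0) (h0 : a0 ∉ R)
    (R' : Submodule (ZMod 2) W) (hR : ∀ w ∈ R', w ∈ R ∨ w + a0 ∈ R) : ∃ s' : W → G, Sec D Q vec R' s' := by
  classical
  obtain ⟨s1, h1, h2⟩ := exists_coset L S C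
  -- cosets are disjoint
  have hdis : ∀ w, w + a0 ∈ R → w ∉ R := by
    intro w hw hw'
    apply h0
    have := R.add_mem hw' hw
    rwa [add_cancel2] at this
  let s' : W → G := fun w => if w ∈ R then s w else s1 w
  have eR : ∀ {w}, w ∈ R → s' w = s w := fun h => if_pos h
  have eN : ∀ {w}, w + a0 ∈ R → s' w = s1 w := fun h => if_neg (hdis _ h)
  refine ⟨s', ?_, ?_, ?_⟩
  · intro x hx hq
    rcases hR x hx with h | h
    · rw [eR h]
      exact S.mem x h hq
    · rw [eN h]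
      exact (h1 x ⟨h, hq⟩).1
  · intro x hx hq
    rcases hR x hx with h | h
    · rw [eR h]
      exact S.lab x h hq
    · rw [eN h]
      exact (h1 x ⟨h, hq⟩).2
  · intro x hx y hy qx qy hp
    -- a point in `R` and a point of the coset
    have mix : ∀ x y : W, x ∈ R → y + a0 ∈ R → Q x = 1 → Q y = 1 → polar Q x y = 1 →
        s x * s1 y * s x = s1 (x + y) := by
      intro x y h3 h4 qx qy hp
      have h5 : x + y ∈ Co Q R a0 := by
        refine ⟨?_, ?_⟩
        · rw [add_assoc]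
          exact R.add_mem h3 h4
        · rw [Q_add, qx, qy, hp]
          decide
      have h6 := h2 y ⟨h4, qy⟩ (x + y) h5 (by rw [p_add, p_self, add_zero, p_comm, hp])
      rw [tr, add_comm x y, add_cancel2] at h6
      rw [h6, add_comm]
    have sum_mem : ∀ {x y : W}, x + a0 ∈ R → y + a0 ∈ R → x + y ∈ R := by
      intro x y h3 h4
      have := R.add_mem h3 h4
      have e : x + a0 + (y + a0) = x + y + (a0 + a0) := by abel
      rwa [e, add_self, add_zero] at this
    rcases hR x hx with h3 | h3 <;> rcases hR y hy with h4 | h4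
    · rw [eR h3, eR h4, eR (R.add_mem h3 h4)]
      exact S.conj x h3 y h4 qx qy hp
    · rw [eR h3, eN h4, eN (by rw [add_assoc]; exact R.add_mem h3 h4)]
      exact mix x y h3 h4 qx qy hp
    · rw [eN h3, eR h4, eN (by rw [add_right_comm]; exact R.add_mem h3 h4)]
      obtain ⟨m1, v1⟩ := h1 x ⟨h3, qx⟩
      rw [L.braid _ m1 _ (S.mem y h4 qy) (by rw [v1, S.lab y h4 qy, hp]), mix y x h4 h3 qy qx (by rw [p_comm, hp]),
        add_comm]
    · have h5 := sum_mem h3 h4
      rw [eN h3, eN h4, eR h5]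
      have qs : Q (x + y) = 1 := by
        rw [Q_add, qx, qy, hp]
        decide
      obtain ⟨m1, v1⟩ := h1 x ⟨h3, qx⟩
      have h6 := h2 x ⟨h3, qx⟩ y ⟨h4, qy⟩ hp
      rw [tr] at h6
      set g := s (x + y) with hg
      have hgD : g ∈ D := S.mem _ h5 qs
      have hgg := L.sq g hgD
      have hss := L.sq _ m1
      have hb : s1 x * g * s1 x = g * s1 x * g := by
        apply L.braid _ m1 _ hgD
        rw [v1, hg, S.lab _ h5 qs, p_add, p_self, zero_add, hp]
      rw [← h6]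
      calc s1 x * (g * s1 x * g) * s1 x = (s1 x * g * s1 x) * (g * s1 x) := by simp only [mul_assoc]
        _ = (g * s1 x * g) * (g * s1 x) := by rw [hb]
        _ = g * s1 x * (g * g) * s1 x := by simp only [mul_assoc]
        _ = g * (s1 x * s1 x) := by rw [hgg, mul_one, mul_assoc]
        _ = g := by rw [hss, mul_one]

end Ext

end Cfsg.Agent.H838.TT
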