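import Cfsg.Agent.H838.TTO
import Cfsg.Agent.H838.Sym

/-!
# Closed sections, symmetric type (helper838, TT2 of S5554)
-/

set_option autoImplicit false

namespace Cfsg.Agent.H838.TT

open Equiv
open Cfsg.Agent.H854.ClassBasic Cfsg.Agent.Fischer480.Defs Cfsg.Agent.H853.TDefs

theorem other {α : Type*} [DecidableEq α] {A : Finset α} (hA : A.card = 2) {x : α} (hx : x ∈ A) :
    ∃ a, a ≠ x ∧ A = {x, a} := by
  obtain ⟨p, q, hpq, rfl⟩ := Finset.card_eq_two.1 hA
  rcases Finset.mem_insert.1 hx with rfl | h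
  · exact ⟨q, Ne.symm hpq, rfl⟩
  · rw [Finset.mem_singleton.1 h]
    exact ⟨p, hpq, Finset.pair_comm p q⟩

theorem exists_fifth {n : ℕ} (hn : 5 ≤ n) (x y a b : Fin n) : ∃ z, z ≠ x ∧ z ≠ y ∧ z ≠ a ∧ z ≠ b := by
  by_contra hcon
  push Not at hcon
  have h1 : (Finset.univ : Finset (Fin n)) ⊆ {x, y, a, b} := by
    intro z _
    simp only [Finset.mem_insert, Finset.mem_singleton]
    by_contra h2
    push Not at h2
    exact h2.2.2.2 (hcon z h2.1 h2.2.1 h2.2.2.1)
  have h2 := (Finset.card_le_card h1).trans Finset.card_le_four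
  rw [Finset.card_univ, Fintype.card_fin] at h2
  omega

/-- labels by pairs -/
structure LabS {G : Type*} [Group G] (D : Set G) {n : ℕ} (ℓ : G → Finset (Fin n)) : Prop where
  two : ∀ d ∈ D, (ℓ d).card = 2
  comm : ∀ d ∈ D, ∀ e ∈ D, (d * e = e * d ↔ ℓ d = ℓ e ∨ Disjoint (ℓ d) (ℓ e))
  surj : ∀ s : Finset (Fin n), s.card = 2 → ∃ d ∈ D, ℓ d = s

section

variable {G : Type*} [Group G] {D : Set G} {n : ℕ} {ℓ : G → Finset (Fin n)}

/-- the third point of a line -/
theorem LabS.third (L : LabS D ℓ) (h : Cls D) (hn : 5 ≤ n) {d e : G} (hd : d ∈ D) (he : e ∈ D) {x a b : Fin n}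
    (hxa : a ≠ x) (hxb : b ≠ x) (hab : a ≠ b) (h1 : ℓ d = {x, a}) (h2 : ℓ e = {x, b}) : ℓ (d * e * d) = {a, b} := by
  have hde : d * e ≠ e * d := by
    rw [Ne, L.comm d hd e he, h1, h2]
    rintro (h3 | h3)
    · have h4 : a ∈ ({x, b} : Finset (Fin n)) := by
        rw [← h3]
        simp
      simp only [Finset.mem_insert, Finset.mem_singleton] at h4
      tauto
    · exact (Finset.disjoint_left.1 h3 (Finset.mem_insert_self x _)) (Finset.mem_insert_self x _)
  have hbr := (h.braid d hd e he).resolve_left hde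
  have hm := conj' h hd he
  have n1 := not_comm_conj h hd hde
  have n2 := not_comm_conj h he (Ne.symm hde)
  rw [← hbr] at n2
  rw [Ne, L.comm _ hm d hd] at n1
  rw [Ne, L.comm _ hm e he] at n2
  push Not at n1 n2
  have c2 := L.two _ hm
  have c3 : ∀ {y z : Fin n}, y ≠ z → z ≠ x → z ≠ a → z ≠ b → y ≠ x → y ≠ a → y ≠ b →
      ℓ (d * e * d) = {y, z} ∨ Disjoint ({y, z} : Finset (Fin n)) (ℓ (d * e * d)) := by
    intro y z hyz zx za zb yx ya yb
    obtain ⟨g, hg, hgl⟩ := L.surj {y, z} (Finset.card_pair hyz)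
    have e1 : g * d = d * g := by
      rw [L.comm g hg d hd, hgl, h1]
      right
      simp only [Finset.disjoint_insert_left, Finset.disjoint_singleton_left, Finset.mem_insert, Finset.mem_singleton]
      tauto
    have e2 : g * e = e * g := by
      rw [L.comm g hg e he, hgl, h2]
      right
      simp only [Finset.disjoint_insert_left, Finset.disjoint_singleton_left, Finset.mem_insert, Finset.mem_singleton]
      tauto
    have e3 := comm_conj e1 e2
    rw [L.comm g hg _ hm, hgl] at e3
    rcases e3 with e3 | e3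
    · exact Or.inl e3.symm
    · exact Or.inr e3
  generalize ℓ (d * e * d) = P at *
  rw [h1] at n1
  rw [h2] at n2
  by_cases hx : x ∈ P
  · exfalso
    obtain ⟨y, hy, rfl⟩ := other c2 hx
    have ya : y ≠ a := by
      rintro rfl
      exact n1.1 rfl
    have yb : y ≠ b := by
      rintro rfl
      exact n2.1 rfl
    obtain ⟨z, z1, z2, z3, z4⟩ := exists_fifth hn x y a b
    rcases c3 (Ne.symm z2) z1 z3 z4 hy ya yb with h3 | h3
    · have h4 : x ∈ ({y, z} : Finset (Fin n)) := by
        rw [← h3]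
        simp
      simp only [Finset.mem_insert, Finset.mem_singleton] at h4
      rcases h4 with h4 | h4
      · exact hy h4.symm
      · exact z1 h4.symm
    · have := Finset.disjoint_left.1 h3 (Finset.mem_insert_self y _)
      simp at this
  · obtain ⟨m1, k1, k2⟩ := Finset.not_disjoint_iff.1 n1.2
    obtain ⟨m2, k3, k4⟩ := Finset.not_disjoint_iff.1 n2.2
    simp only [Finset.mem_insert, Finset.mem_singleton] at k2 k4
    have e1 : m1 = a := by
      rcases k2 with rfl | rfl
      · exact absurd k1 hx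
      · rfl
    have e2 : m2 = b := by
      rcases k4 with rfl | rfl
      · exact absurd k3 hx
      · rfl
    subst e1 e2
    obtain ⟨c, hc, rfl⟩ := other c2 k1
    simp only [Finset.mem_insert, Finset.mem_singleton] at k3
    rcases k3 with k3 | k3
    · exact absurd k3.symm hab
    · rw [k3]

/-- equivariance for one element -/
theorem LabS.swap (L : LabS D ℓ) (h : Cls D) (hn : 5 ≤ n) {t d : G} (ht : t ∈ D) (hd : d ∈ D) {i j : Fin n}
    (hij : i ≠ j) (hl : ℓ t = {i, j}) : ℓ (t * d * t) = (ℓ d).image (Equiv.swap i j) := by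
  have htt := h.sq t ht
  by_cases hc : t * d = d * t
  · have e1 : t * d * t = d := by rw [hc, mul_assoc, htt, mul_one]
    rw [e1]
    rw [L.comm t ht d hd] at hc
    rcases hc with hc | hc
    · rw [← hc, hl, Finset.image_insert, Finset.image_singleton, swap_apply_left, swap_apply_right, Finset.pair_comm]
    · rw [hl] at hc
      have h1 : i ∉ ℓ d := Finset.disjoint_left.1 hc (Finset.mem_insert_self i _)
      have h2 : j ∉ ℓ d := Finset.disjoint_left.1 hc (by simp)
      ext z
      rw [Finset.mem_image]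
      constructor
      · intro hz
        exact ⟨z, hz, swap_apply_of_ne_of_ne (ne_of_mem_of_not_mem hz h1) (ne_of_mem_of_not_mem hz h2)⟩
      · rintro ⟨y, hy, rfl⟩
        rwa [swap_apply_of_ne_of_ne (ne_of_mem_of_not_mem hy h1) (ne_of_mem_of_not_mem hy h2)]
  · have hc' := hc
    rw [L.comm t ht d hd] at hc'
    push Not at hc'
    obtain ⟨x, k1, k2⟩ := Finset.not_disjoint_iff.1 hc'.2
    obtain ⟨b, hb, hdb⟩ := other (L.two d hd) k2
    have hne := hc'.1
    rw [hl, hdb] at hne
    rw [hl] at k1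
    simp only [Finset.mem_insert, Finset.mem_singleton] at k1
    rcases k1 with rfl | rfl
    · have hbj : j ≠ b := by
        rintro rfl
        exact hne rfl
      rw [L.third h hn ht hd (Ne.symm hij) hb hbj hl hdb, hdb, Finset.image_insert, Finset.image_singleton,
        swap_apply_left, swap_apply_of_ne_of_ne hb (Ne.symm hbj)]
    · have hbi : i ≠ b := by
        rintro rfl
        exact hne (Finset.pair_comm _ _)
      rw [L.third h hn ht hd hij hb hbi (by rw [hl, Finset.pair_comm]) hdb, hdb, Finset.image_insert,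
        Finset.image_singleton, swap_apply_right, swap_apply_of_ne_of_ne (Ne.symm hbi) hb]

end

/-- **Symmetric type.** -/
theorem closed_sym {G : Type*} [Group G] [Finite G] {D : Set G} (h : Cls D) {V : Subgroup G} [V.Normal]
    (hV : IsPGroup 2 V) {n : ℕ} (hn : 5 ≤ n) (hS : IsSym n (QuotientGroup.mk' V '' D)) :
    ∃ S, ClosedSection D V S := by
  obtain ⟨f, f1, f2, f3, f4⟩ := hS
  obtain ⟨k, rfl⟩ : ∃ k, n = k + 1 := ⟨n - 1, by omega⟩
  have L : LabS D fun d => f (QuotientGroup.mk' V d) := by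
    refine ⟨fun d hd => f1 _ ⟨_, hd, rfl⟩, ?_, ?_⟩
    · intro d hd e he
      rw [← comm_iff h hV hd he]
      exact f2 _ ⟨_, hd, rfl⟩ _ ⟨_, he, rfl⟩
    · intro s hs
      obtain ⟨_, ⟨d, hd, rfl⟩, h1⟩ := f4 s hs
      exact ⟨d, hd, h1⟩
  have same : ∀ d ∈ D, ∀ e ∈ D, f (QuotientGroup.mk' V d) = f (QuotientGroup.mk' V e) → d⁻¹ * e ∈ V :=
    fun d hd e he h1 => QuotientGroup.eq.1 (f3 _ ⟨_, hd, rfl⟩ _ ⟨_, he, rfl⟩ h1)
  have same' : ∀ {d e : G}, d⁻¹ * e ∈ V → f (QuotientGroup.mk' V d) = f (QuotientGroup.mk' V e) :=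
    fun h1 => congrArg f (QuotientGroup.eq.2 h1)
  generalize hvec : (fun d => f (QuotientGroup.mk' V d)) = ℓ at L
  have hv : ∀ d, f (QuotientGroup.mk' V d) = ℓ d := fun d => congrFun hvec d
  simp only [hv] at same same'
  -- lifts of the adjacent transpositions
  have hex : ∀ i : Fin k, ∃ d ∈ D, ℓ d = {i.castSucc, i.succ} := fun i =>
    L.surj _ (Finset.card_pair (Fin.castSucc_lt_succ).ne)
  choose t tD tl using hex
  obtain ⟨F, hF, -⟩ := Sym.exists_hom t (fun i => h.sq _ (tD i)) (by
    intro i j hij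
    refine (h.braid _ (tD i) _ (tD j)).resolve_left ?_
    rw [L.comm _ (tD i) _ (tD j), tl, tl]
    rintro (h1 | h1)
    · have h2 : i.castSucc ∈ ({j.castSucc, j.succ} : Finset (Fin (k + 1))) := by
        rw [← h1]
        simp
      simp only [Finset.mem_insert, Finset.mem_singleton, Fin.ext_iff, Fin.val_castSucc, Fin.val_succ] at h2
      omega
    · have h2 := Finset.disjoint_left.1 h1 (show i.succ ∈ _ by simp)
      apply h2
      simp only [Finset.mem_insert, Finset.mem_singleton, Fin.ext_iff, Fin.val_castSucc, Fin.val_succ]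
      omega) (by
    intro i j hij
    rw [L.comm _ (tD i) _ (tD j), tl, tl]
    right
    simp only [Finset.disjoint_insert_left, Finset.disjoint_singleton_left, Finset.mem_insert, Finset.mem_singleton,
      Fin.ext_iff, Fin.val_castSucc, Fin.val_succ]
    omega)
  have tinv : ∀ i, (t i)⁻¹ = t i := fun i => inv_eq_of_mul_eq_one_left (h.sq _ (tD i))
  -- equivariance
  have eqv : ∀ g : Perm (Fin (k + 1)), ∀ d ∈ D, ℓ (F g * d * (F g)⁻¹) = (ℓ d).image g := by
    intro g
    have hg : g ∈ Submonoid.closure (Set.range fun i : Fin k => swap i.castSucc i.succ) := by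
      rw [Equiv.Perm.mclosure_swap_castSucc_succ]
      trivial
    induction hg using Submonoid.closure_induction with
    | mem x hx =>
      obtain ⟨i, rfl⟩ := hx
      intro d hd
      change ℓ (F (swap i.castSucc i.succ) * d * (F (swap i.castSucc i.succ))⁻¹) = _
      rw [hF, tinv]
      exact L.swap h hn (tD i) hd (Fin.castSucc_lt_succ).ne (tl i)
    | one =>
      intro d hd
      rw [map_one, one_mul, inv_one, mul_one]
      simp
    | mul x y _ _ hx hy =>
      intro d hd
      have e1 : F (x * y) * d * (F (x * y))⁻¹ = F x * (F y * d * (F y)⁻¹) * (F x)⁻¹ := by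
        rw [map_mul]
        group
      rw [e1, hx _ (h.conj _ _ hd), hy d hd, Finset.image_image]
      rfl
  -- transpositions
  have hk : 0 < k := by omega
  let o : Fin k := ⟨0, hk⟩
  have tr : ∀ a b : Fin (k + 1), a ≠ b → F (swap a b) ∈ D ∧ ℓ (F (swap a b)) = {a, b} := by
    intro a b hab
    obtain ⟨g, g1, g2⟩ : ∃ g : Perm (Fin (k + 1)), g o.castSucc = a ∧ g o.succ = b := by
      have ne : swap o.castSucc a o.succ ≠ a := by
        intro h1
        have h2 : swap o.castSucc a o.succ = swap o.castSucc a o.castSucc := by rw [h1, swap_apply_left]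
        exact (Fin.castSucc_lt_succ (i := o)).ne' ((swap o.castSucc a).injective h2)
      refine ⟨swap (swap o.castSucc a o.succ) b * swap o.castSucc a, ?_, ?_⟩
      · rw [Perm.mul_apply, swap_apply_left, swap_apply_of_ne_of_ne (Ne.symm ne) hab]
      · rw [Perm.mul_apply, swap_apply_left]
    have e1 : F (swap a b) = F g * t o * (F g)⁻¹ := by
      rw [← g1, ← g2, swap_apply_apply, map_mul, map_mul, hF, map_inv]
    rw [e1]
    refine ⟨h.conj _ _ (tD o), ?_⟩
    rw [eqv g _ (tD o), tl, Finset.image_insert, Finset.image_singleton, g1, g2]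
  refine ⟨{x | ∃ a b : Fin (k + 1), a ≠ b ∧ x = F (swap a b)}, ?_, ?_, ?_, ?_⟩
  · rintro _ ⟨a, b, hab, rfl⟩
    exact (tr a b hab).1
  · rintro _ ⟨a, b, hab, rfl⟩ _ ⟨c, d, hcd, rfl⟩
    refine ⟨swap a b c, swap a b d, fun h1 => hcd ((swap a b).injective h1), ?_⟩
    rw [swap_apply_apply, map_mul, map_mul, map_inv]
  · intro d hd
    obtain ⟨a, b, hab, h1⟩ := Finset.card_eq_two.1 (L.two d hd)
    refine ⟨_, ⟨a, b, hab, rfl⟩, ?_⟩
    apply same _ (tr a b hab).1 _ hd
    rw [(tr a b hab).2, h1]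
  · rintro _ ⟨a, b, hab, rfl⟩ _ ⟨c, d, hcd, rfl⟩ h1
    have h2 := same' h1
    rw [(tr a b hab).2, (tr c d hcd).2] at h2
    have h3 : a ∈ ({c, d} : Finset (Fin (k + 1))) := by
      rw [← h2]
      simp
    have h4 : b ∈ ({c, d} : Finset (Fin (k + 1))) := by
      rw [← h2]
      simp
    simp only [Finset.mem_insert, Finset.mem_singleton] at h3 h4
    rcases h3 with rfl | rfl <;> rcases h4 with rfl | rfl
    · exact absurd rfl hab
    · rfl
    · rw [swap_comm]
    · exact absurd rfl hab

end Cfsg.Agent.H838.TT
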